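import Mathlib

/-! Tables for the cubic form in 27 variables and the root elements of type E6 preserving it. -/

set_option autoImplicit false
set_option maxHeartbeats 4000000

namespace CfsgLib.Chevalley.E6Cubic

/-- Why a coordinate of the image is non-zero. -/
inductive Kind where
  | all : Kind
  | meets : ℕ → ℕ → Kind
  | fixed : ℕ → ℕ → Kind

/-- A move in a reduction step. -/
inductive Op where
  | clear : ℕ → ℕ → Op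
  | sing : ℕ → ℕ → Op

/-- A reduction step. -/
structure Step where
  /-- the weight whose line gets fixed -/
  w : ℕ
  /-- coordinates that vanish: coordinate, witness, third coordinate -/
  zs : List (ℕ × ℕ × ℕ)
  /-- reason for a non-zero coordinate -/
  kind : Kind
  /-- words moving a coordinate to `w` -/
  words : List (ℕ × List ℕ)
  /-- clearing moves -/
  ops : List Op

/-- The cubic form: signs and coordinates of the monomials. -/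
def monoTab : List (ℤ × ℕ × ℕ × ℕ) := [
  (1, 0, 4, 8), ((-1), 0, 5, 7), ((-1), 1, 3, 8), (1, 1, 5, 6), (1, 2, 3, 7),
  ((-1), 2, 4, 6), (1, 9, 13, 17), ((-1), 9, 14, 16), ((-1), 10, 12, 17), (1, 10, 14, 15),
  (1, 11, 12, 16), ((-1), 11, 13, 15), (1, 18, 22, 26), ((-1), 18, 23, 25), ((-1), 19, 21, 26),
  (1, 19, 23, 24), (1, 20, 21, 25), ((-1), 20, 22, 24), ((-1), 0, 9, 18), ((-1), 0, 10, 21),
  ((-1), 0, 11, 24), ((-1), 1, 12, 18), ((-1), 1, 13, 21), ((-1), 1, 14, 24), ((-1), 2, 15, 18),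
  ((-1), 2, 16, 21), ((-1), 2, 17, 24), ((-1), 3, 9, 19), ((-1), 3, 10, 22), ((-1), 3, 11, 25),
  ((-1), 4, 12, 19), ((-1), 4, 13, 22), ((-1), 4, 14, 25), ((-1), 5, 15, 19), ((-1), 5, 16, 22),
  ((-1), 5, 17, 25), ((-1), 6, 9, 20), ((-1), 6, 10, 23), ((-1), 6, 11, 26), ((-1), 7, 12, 20),
  ((-1), 7, 13, 23), ((-1), 7, 14, 26), ((-1), 8, 15, 20), ((-1), 8, 16, 23), ((-1), 8, 17, 26)]

/-- The root matrices, as (row, column, value). -/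
def rootEnt : List (List (ℕ × ℕ × ℤ)) := [
  [(6, 0, 1), (7, 1, 1), (8, 2, 1), (18, 20, (-1)), (21, 23, (-1)), (24, 26, (-1))],
  [(6, 14, 1), (7, 11, (-1)), (15, 23, 1), (16, 20, (-1)), (24, 5, 1), (25, 2, (-1))],
  [(3, 20, 1), (6, 19, (-1)), (12, 2, 1), (15, 1, (-1)), (21, 11, 1), (24, 10, (-1))],
  [(6, 13, 1), (7, 10, (-1)), (15, 26, (-1)), (17, 20, 1), (21, 5, 1), (22, 2, (-1))],
  [(4, 20, (-1)), (7, 19, 1), (9, 2, 1), (15, 0, (-1)), (21, 14, (-1)), (24, 13, 1)],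
  [(3, 23, (-1)), (6, 22, 1), (13, 2, (-1)), (16, 1, 1), (18, 11, 1), (24, 9, (-1))],
  [(6, 12, 1), (7, 9, (-1)), (16, 26, 1), (17, 23, (-1)), (18, 5, 1), (19, 2, (-1))],
  [(4, 23, 1), (7, 22, (-1)), (10, 2, (-1)), (16, 0, 1), (18, 14, (-1)), (24, 12, 1)],
  [(3, 26, (-1)), (6, 25, 1), (14, 2, (-1)), (17, 1, 1), (18, 10, (-1)), (21, 9, 1)],
  [(3, 0, (-1)), (4, 1, (-1)), (5, 2, (-1)), (18, 19, 1), (21, 22, 1), (24, 25, 1)],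
  [(4, 26, (-1)), (7, 25, 1), (11, 2, 1), (17, 0, (-1)), (18, 13, (-1)), (21, 12, 1)],
  [(0, 2, 1), (3, 5, 1), (6, 8, 1), (15, 9, (-1)), (16, 10, (-1)), (17, 11, (-1))],
  [(3, 14, (-1)), (4, 11, 1), (15, 22, (-1)), (16, 19, 1), (24, 8, 1), (26, 2, (-1))],
  [(1, 2, 1), (4, 5, 1), (7, 8, 1), (15, 12, (-1)), (16, 13, (-1)), (17, 14, (-1))],
  [(3, 13, 1), (4, 10, (-1)), (15, 25, (-1)), (17, 19, 1), (21, 8, (-1)), (23, 2, 1)],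
  [(3, 12, 1), (4, 9, (-1)), (16, 25, 1), (17, 22, (-1)), (18, 8, (-1)), (20, 2, 1)],
  [(6, 17, 1), (8, 11, (-1)), (12, 23, (-1)), (13, 20, 1), (24, 4, (-1)), (25, 1, 1)],
  [(6, 3, (-1)), (7, 4, (-1)), (8, 5, (-1)), (19, 20, 1), (22, 23, 1), (25, 26, 1)],
  [(7, 17, (-1)), (8, 14, 1), (9, 23, (-1)), (10, 20, 1), (24, 3, (-1)), (25, 0, 1)],
  [(6, 16, (-1)), (8, 10, 1), (12, 26, (-1)), (14, 20, 1), (21, 4, 1), (22, 1, (-1))],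
  [(5, 20, 1), (8, 19, (-1)), (9, 1, 1), (12, 0, (-1)), (21, 17, 1), (24, 16, (-1))],
  [(7, 16, (-1)), (8, 13, 1), (9, 26, 1), (11, 20, (-1)), (21, 3, (-1)), (22, 0, 1)],
  [(6, 15, (-1)), (8, 9, 1), (13, 26, 1), (14, 23, (-1)), (18, 4, 1), (19, 1, (-1))],
  [(5, 23, (-1)), (8, 22, 1), (10, 1, (-1)), (13, 0, 1), (18, 17, 1), (24, 15, (-1))],
  [(7, 15, (-1)), (8, 12, 1), (10, 26, (-1)), (11, 23, 1), (18, 3, (-1)), (19, 0, 1)],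
  [(5, 26, (-1)), (8, 25, 1), (11, 1, (-1)), (14, 0, 1), (18, 16, (-1)), (21, 15, 1)],
  [(0, 20, (-1)), (6, 18, 1), (12, 5, 1), (15, 4, (-1)), (22, 11, 1), (25, 10, (-1))],
  [(9, 11, (-1)), (12, 14, (-1)), (15, 17, (-1)), (24, 18, 1), (25, 19, 1), (26, 20, 1)],
  [(1, 20, (-1)), (7, 18, 1), (9, 5, (-1)), (15, 3, 1), (22, 14, 1), (25, 13, (-1))],
  [(9, 10, 1), (12, 13, 1), (15, 16, 1), (21, 18, (-1)), (22, 19, (-1)), (23, 20, (-1))],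
  [(0, 23, (-1)), (6, 21, 1), (13, 5, 1), (16, 4, (-1)), (19, 11, (-1)), (25, 9, 1)],
  [(10, 11, (-1)), (13, 14, (-1)), (16, 17, (-1)), (24, 21, 1), (25, 22, 1), (26, 23, 1)],
  [(1, 23, (-1)), (7, 21, 1), (10, 5, (-1)), (16, 3, 1), (19, 14, (-1)), (25, 12, 1)],
  [(0, 1, (-1)), (3, 4, (-1)), (6, 7, (-1)), (12, 9, 1), (13, 10, 1), (14, 11, 1)],
  [(3, 17, (-1)), (5, 11, 1), (12, 22, 1), (13, 19, (-1)), (24, 7, (-1)), (26, 1, 1)],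
  [(0, 26, 1), (6, 24, (-1)), (14, 5, (-1)), (17, 4, 1), (19, 10, (-1)), (22, 9, 1)],
  [(4, 17, 1), (5, 14, (-1)), (9, 22, 1), (10, 19, (-1)), (24, 6, (-1)), (26, 0, 1)],
  [(1, 26, 1), (7, 24, (-1)), (11, 5, 1), (17, 3, (-1)), (19, 13, (-1)), (22, 12, 1)],
  [(1, 0, (-1)), (4, 3, (-1)), (7, 6, (-1)), (9, 12, 1), (10, 13, 1), (11, 14, 1)],
  [(3, 16, 1), (5, 10, (-1)), (12, 25, 1), (14, 19, (-1)), (21, 7, 1), (23, 1, (-1))],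
  [(11, 10, (-1)), (14, 13, (-1)), (17, 16, (-1)), (21, 24, 1), (22, 25, 1), (23, 26, 1)],
  [(4, 16, (-1)), (5, 13, 1), (9, 25, 1), (11, 19, (-1)), (21, 6, 1), (23, 0, (-1))],
  [(10, 9, 1), (13, 12, 1), (16, 15, 1), (18, 21, (-1)), (19, 22, (-1)), (20, 23, (-1))],
  [(3, 15, 1), (5, 9, (-1)), (13, 25, (-1)), (14, 22, 1), (18, 7, 1), (20, 1, (-1))],
  [(11, 9, (-1)), (14, 12, (-1)), (17, 15, (-1)), (18, 24, 1), (19, 25, 1), (20, 26, 1)],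
  [(4, 15, (-1)), (5, 12, 1), (10, 25, (-1)), (11, 22, 1), (18, 6, 1), (20, 0, (-1))],
  [(0, 14, 1), (1, 11, (-1)), (15, 21, 1), (16, 18, (-1)), (25, 8, 1), (26, 5, (-1))],
  [(0, 19, 1), (3, 18, (-1)), (12, 8, 1), (15, 7, (-1)), (23, 11, 1), (26, 10, (-1))],
  [(0, 13, 1), (1, 10, (-1)), (15, 24, (-1)), (17, 18, 1), (22, 8, 1), (23, 5, (-1))],
  [(1, 19, (-1)), (4, 18, 1), (9, 8, 1), (15, 6, (-1)), (23, 14, (-1)), (26, 13, 1)],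
  [(0, 22, 1), (3, 21, (-1)), (13, 8, 1), (16, 7, (-1)), (20, 11, (-1)), (26, 9, 1)],
  [(0, 12, (-1)), (1, 9, 1), (16, 24, (-1)), (17, 21, 1), (19, 8, (-1)), (20, 5, 1)],
  [(1, 22, (-1)), (4, 21, 1), (10, 8, 1), (16, 6, (-1)), (20, 14, 1), (26, 12, (-1))],
  [(0, 25, 1), (3, 24, (-1)), (14, 8, 1), (17, 7, (-1)), (20, 10, 1), (23, 9, (-1))],
  [(3, 6, (-1)), (4, 7, (-1)), (5, 8, (-1)), (20, 19, 1), (23, 22, 1), (26, 25, 1)],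
  [(1, 25, 1), (4, 24, (-1)), (11, 8, (-1)), (17, 6, 1), (20, 13, 1), (23, 12, (-1))],
  [(2, 20, 1), (8, 18, (-1)), (9, 4, (-1)), (12, 3, 1), (22, 17, (-1)), (25, 16, 1)],
  [(2, 23, 1), (8, 21, (-1)), (10, 4, (-1)), (13, 3, 1), (19, 17, 1), (25, 15, (-1))],
  [(2, 1, 1), (5, 4, 1), (8, 7, 1), (12, 15, (-1)), (13, 16, (-1)), (14, 17, (-1))],
  [(2, 26, (-1)), (8, 24, 1), (11, 4, 1), (14, 3, (-1)), (19, 16, 1), (22, 15, (-1))],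
  [(2, 0, 1), (5, 3, 1), (8, 6, 1), (9, 15, (-1)), (10, 16, (-1)), (11, 17, (-1))],
  [(0, 17, (-1)), (2, 11, 1), (12, 21, 1), (13, 18, (-1)), (25, 7, 1), (26, 4, (-1))],
  [(0, 3, (-1)), (1, 4, (-1)), (2, 5, (-1)), (19, 18, 1), (22, 21, 1), (25, 24, 1)],
  [(1, 17, 1), (2, 14, (-1)), (9, 21, 1), (10, 18, (-1)), (25, 6, 1), (26, 3, (-1))],
  [(0, 16, 1), (2, 10, (-1)), (12, 24, 1), (14, 18, (-1)), (22, 7, (-1)), (23, 4, 1)],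
  [(2, 19, (-1)), (5, 18, 1), (9, 7, (-1)), (12, 6, 1), (23, 17, (-1)), (26, 16, 1)],
  [(1, 16, 1), (2, 13, (-1)), (9, 24, (-1)), (11, 18, 1), (22, 6, 1), (23, 3, (-1))],
  [(0, 15, (-1)), (2, 9, 1), (13, 24, 1), (14, 21, (-1)), (19, 7, 1), (20, 4, (-1))],
  [(2, 22, (-1)), (5, 21, 1), (10, 7, (-1)), (13, 6, 1), (20, 17, 1), (26, 15, (-1))],
  [(1, 15, (-1)), (2, 12, 1), (10, 24, (-1)), (11, 21, 1), (19, 6, (-1)), (20, 3, 1)],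
  [(2, 25, (-1)), (5, 24, 1), (11, 7, (-1)), (14, 6, 1), (20, 16, (-1)), (23, 15, 1)],
  [(0, 6, 1), (1, 7, 1), (2, 8, 1), (20, 18, (-1)), (23, 21, (-1)), (26, 24, (-1))]]

/-- The diagonal matrices of the fundamental coroots. -/
def hTab : List (List ℤ) := [
  [0, 0, 1, -1, -1, 0, 0, 0, 1, 1, 0, 0, 1, 0, 0, 0, -1, -1, -1, 0, -1, 0, 1, 0, 0, 1, 0],
  [1, 1, 0, 0, 0, -1, 0, 0, -1, 0, 0, -1, 0, 0, -1, 1, 1, 0, -1, 0, 0, -1, 0, 0, 0, 1, 1],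
  [0, 0, 0, 0, 0, 0, 0, 0, 0, -1, 1, 0, -1, 1, 0, -1, 1, 0, 1, 1, 1, -1, -1, -1, 0, 0, 0],
  [0, -1, 0, 1, 0, 1, 0, -1, 0, 0, -1, 0, 1, 0, 1, 0, -1, 0, 0, -1, 0, 1, 0, 1, 0, -1, 0],
  [0, 1, 0, -1, 0, -1, 0, 1, 0, 0, 0, 1, -1, -1, 0, 0, 0, 1, 0, 1, 0, 0, 1, 0, -1, 0, -1],
  [-1, 0, 0, 0, 1, 1, -1, 0, 0, 1, 1, 0, 0, 0, -1, 0, 0, -1, 0, -1, 0, 0, -1, 0, 1, 0, 1]]

/-- Six weights spanning the weight lattice, and the inverse matrix. -/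
def baseW : List ℕ := [22, 15, 17, 24, 25, 12]

/-- The inverse matrix. -/
def baseInv : List (List ℤ) := [[0, 0, -1, -1, 0, 0], [-1, 1, -1, -2, 0, 0], [-1, 0, -1, -2, 0, 0], [-1, 1, -2, -3, -1, 0], [0, 1, -2, -2, -1, -1], [0, 1, -2, -1, -1, -1]]

/-- Monomials spreading from the base weights to all weights. -/
def spreadTab : List (ℕ × ℕ) := [(8, 10), (9, 14), (17, 20), (23, 1), (26, 2), (28, 3), (29, 11), (32, 4), (35, 5), (39, 7), (41, 26), (42, 8), (0, 0), (3, 6), (10, 16), (11, 13), (12, 18), (13, 23), (15, 19), (16, 21), (18, 9)]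

/-- The reduction steps. -/
def stepTab : List Step := [
  ⟨0, [],
    .all, [(0, []), (1, [38]), (2, [60]), (3, [62]), (4, [36, 61]), (5, [36, 46]), (6, [71]), (7, [38, 71]), (8, [46, 53]), (9, [36, 50]), (10, [36, 47]), (11, [38, 46]), (12, [51]), (13, [48]), (14, [46]), (15, [67]), (16, [64]), (17, [61]), (18, [45, 71]), (19, [47]), (20, [45]), (21, [41, 71]), (22, [50]), (23, [41]), (24, [36, 71]), (25, [53]), (26, [36])],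
    [.clear 0 6, .clear 4 15, .clear 7 16, .clear 9 3, .sing 11 24, .clear 10 17, .sing 5 7, .sing 8 4, .sing 9 18, .sing 10 21, .clear 18 25, .clear 20 12, .clear 21 22, .sing 4 8, .sing 18 9, .clear 23 13, .clear 24 19, .sing 21 10, .clear 25 14, .sing 7 5, .sing 24 11, .clear 36 26, .clear 38 1, .clear 41 23, .clear 45 20, .clear 60 2]⟩,
  ⟨4, [],
    .meets 0 8, [(4, []), (5, [58]), (7, [54]), (8, [12, 55]), (9, [15]), (10, [14]), (11, [12]), (18, [49]), (21, [52]), (24, [55])],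
    [.clear 16 24, .clear 17 7, .clear 19 21, .clear 22 18, .sing 0 8, .sing 2 6, .clear 26 15, .clear 30 16, .sing 14 25, .clear 33 3, .sing 19 12, .sing 22 13, .clear 35 17, .sing 8 0, .sing 12 19, .sing 13 22, .sing 25 14, .clear 56 9, .clear 57 10, .clear 58 5, .clear 59 11, .sing 6 2, .clear 61 26, .clear 62 1, .clear 64 23, .clear 67 20]⟩,
  ⟨8, [],
    .fixed 0 4, [(8, [])],
    [.clear 11 6, .clear 12 24, .clear 13 7, .clear 14 21, .sing 20 15, .clear 15 18, .sing 0 4, .sing 1 3, .sing 23 16, .sing 26 17, .clear 46 25, .clear 47 12, .clear 48 22, .sing 4 0, .clear 49 9, .sing 3 1, .sing 16 23, .sing 17 26, .clear 50 13, .clear 51 19, .clear 52 10, .sing 15 20, .clear 53 14, .clear 54 5, .clear 55 11, .clear 71 2]⟩,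
  ⟨1, [(0, 4, 8), (2, 4, 6), (4, 0, 8), (5, 0, 7), (6, 4, 2), (7, 0, 5), (8, 0, 4), (9, 0, 18), (10, 0, 21), (11, 0, 24), (12, 4, 19), (13, 4, 22), (14, 4, 25), (18, 0, 9), (19, 4, 12), (21, 0, 10), (22, 4, 13), (24, 0, 11), (25, 4, 14)],
    .meets 8 3, [(1, []), (3, [34, 63]), (15, [69]), (16, [66]), (17, [63]), (20, [43]), (23, [39]), (26, [34])],
    [.clear 2 15, .clear 5 16, .clear 8 17, .sing 8 3, .clear 34 26, .clear 39 23, .clear 43 20]⟩,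
  ⟨3, [(0, 4, 8), (2, 4, 6), (4, 0, 8), (5, 0, 7), (6, 4, 2), (7, 0, 5), (8, 0, 4), (9, 0, 18), (10, 0, 21), (11, 0, 24), (12, 4, 19), (13, 4, 22), (14, 4, 25), (18, 0, 9), (19, 4, 12), (21, 0, 10), (22, 4, 13), (24, 0, 11), (25, 4, 14)],
    .fixed 8 1, [(3, [])],
    [.clear 28 15, .clear 32 16, .clear 37 17, .sing 8 1, .clear 63 26, .clear 66 23, .clear 69 20]⟩,
  ⟨2, [(0, 8, 4), (1, 8, 3), (3, 8, 1), (4, 0, 8), (5, 0, 7), (6, 1, 5), (7, 0, 5), (8, 0, 4), (9, 0, 18), (10, 0, 21), (11, 0, 24), (12, 1, 18), (13, 1, 21), (14, 1, 24), (15, 8, 20), (16, 8, 23), (17, 8, 26), (18, 0, 9), (20, 8, 15), (21, 0, 10), (23, 8, 16), (24, 0, 11), (26, 8, 17)],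
    .meets 4 6, [(2, []), (19, [65]), (22, [68]), (25, [70])],
    [.clear 1 25, .clear 3 22, .clear 6 19]⟩,
  ⟨5, [(0, 4, 8), (1, 8, 3), (2, 4, 6), (3, 8, 1), (4, 8, 0), (6, 4, 2), (7, 3, 2), (8, 4, 0), (9, 3, 19), (10, 3, 22), (11, 3, 25), (12, 4, 19), (13, 4, 22), (14, 4, 25), (15, 8, 20), (16, 8, 23), (17, 8, 26), (18, 2, 15), (19, 4, 12), (20, 8, 15), (21, 2, 16), (22, 4, 13), (23, 8, 16), (24, 2, 17), (25, 4, 14), (26, 8, 17)],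
    .meets 0 7, [(5, [])],
    []⟩,
  ⟨6, [(0, 8, 4), (1, 8, 3), (2, 3, 7), (3, 8, 1), (4, 0, 8), (5, 0, 7), (7, 0, 5), (8, 0, 4), (9, 0, 18), (10, 0, 21), (11, 0, 24), (15, 8, 20), (16, 8, 23), (17, 8, 26), (18, 0, 9), (19, 3, 9), (20, 8, 15), (21, 0, 10), (22, 3, 10), (23, 8, 16), (24, 0, 11), (25, 3, 11), (26, 8, 17)],
    .fixed 4 2, [(6, [])],
    [.clear 65 12, .clear 68 13, .clear 70 14]⟩,
  ⟨7, [(0, 4, 8), (1, 8, 3), (2, 4, 6), (3, 8, 1), (4, 8, 0), (5, 1, 6), (6, 4, 2), (8, 4, 0), (9, 6, 20), (10, 6, 23), (11, 6, 26), (12, 4, 19), (13, 4, 22), (14, 4, 25), (15, 8, 20), (16, 8, 23), (17, 8, 26), (18, 1, 12), (19, 4, 12), (20, 8, 15), (21, 1, 13), (22, 4, 13), (23, 8, 16), (24, 1, 14), (25, 4, 14), (26, 8, 17)],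
    .fixed 0 5, [(7, [])],
    []⟩,
  ⟨9, [(0, 4, 8), (1, 8, 3), (2, 4, 6), (3, 8, 1), (4, 8, 0), (5, 1, 6), (6, 4, 2), (7, 2, 3), (8, 4, 0), (12, 4, 19), (13, 4, 22), (14, 4, 25), (15, 8, 20), (16, 8, 23), (17, 8, 26), (18, 1, 12), (19, 4, 12), (20, 8, 15), (21, 1, 13), (22, 4, 13), (23, 8, 16), (24, 1, 14), (25, 4, 14), (26, 8, 17)],
    .meets 0 18, [(9, []), (10, [42]), (11, [44])],
    [.clear 42 10, .clear 44 11]⟩,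
  ⟨12, [(0, 8, 4), (1, 8, 3), (2, 3, 7), (3, 8, 1), (4, 0, 8), (5, 0, 7), (6, 2, 4), (7, 0, 5), (8, 0, 4), (9, 0, 18), (10, 0, 21), (11, 0, 24), (13, 9, 17), (14, 9, 16), (15, 8, 20), (16, 8, 23), (17, 8, 26), (18, 0, 9), (19, 3, 9), (20, 8, 15), (21, 0, 10), (22, 3, 10), (23, 8, 16), (24, 0, 11), (25, 3, 11), (26, 8, 17)],
    .meets 4 19, [(12, [])],
    []⟩,
  ⟨15, [(0, 4, 8), (1, 3, 8), (2, 4, 6), (3, 1, 8), (4, 0, 8), (5, 0, 7), (6, 4, 2), (7, 0, 5), (8, 0, 4), (9, 0, 18), (10, 0, 21), (11, 0, 24), (12, 4, 19), (13, 4, 22), (14, 4, 25), (16, 9, 14), (17, 9, 13), (18, 0, 9), (19, 4, 12), (20, 6, 9), (21, 0, 10), (22, 4, 13), (23, 6, 10), (24, 0, 11), (25, 4, 14), (26, 6, 11)],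
    .meets 8 20, [(15, [])],
    []⟩,
  ⟨18, [(0, 4, 8), (1, 8, 3), (2, 4, 6), (3, 8, 1), (4, 8, 0), (5, 6, 1), (6, 4, 2), (7, 3, 2), (8, 4, 0), (9, 3, 19), (10, 3, 22), (11, 3, 25), (12, 4, 19), (13, 4, 22), (14, 4, 25), (15, 8, 20), (16, 8, 23), (17, 8, 26), (19, 4, 12), (20, 8, 15), (22, 4, 13), (23, 8, 16), (25, 4, 14), (26, 8, 17)],
    .fixed 0 9, [(18, [])],
    [.clear 27 24, .clear 29 21]⟩,
  ⟨19, [(0, 8, 4), (1, 8, 3), (2, 6, 4), (3, 8, 1), (4, 0, 8), (5, 0, 7), (6, 1, 5), (7, 0, 5), (8, 0, 4), (9, 0, 18), (10, 0, 21), (11, 0, 24), (12, 1, 18), (13, 1, 21), (14, 1, 24), (15, 8, 20), (16, 8, 23), (17, 8, 26), (18, 0, 9), (20, 8, 15), (21, 0, 10), (22, 18, 26), (23, 8, 16), (24, 0, 11), (25, 18, 23), (26, 8, 17)],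
    .fixed 4 12, [(19, [])],
    []⟩,
  ⟨20, [(0, 4, 8), (1, 3, 8), (2, 4, 6), (3, 1, 8), (4, 0, 8), (5, 0, 7), (6, 4, 2), (7, 0, 5), (8, 0, 4), (9, 0, 18), (10, 0, 21), (11, 0, 24), (12, 4, 19), (13, 4, 22), (14, 4, 25), (15, 2, 18), (16, 2, 21), (17, 2, 24), (18, 0, 9), (19, 4, 12), (21, 0, 10), (22, 4, 13), (23, 18, 25), (24, 0, 11), (25, 4, 14), (26, 18, 22)],
    .fixed 8 15, [(20, [])],
    []⟩,
  ⟨10, [(0, 4, 8), (1, 8, 3), (2, 4, 6), (3, 8, 1), (4, 8, 0), (5, 1, 6), (6, 4, 2), (7, 2, 3), (8, 4, 0), (9, 18, 0), (12, 4, 19), (13, 4, 22), (14, 4, 25), (15, 8, 20), (16, 8, 23), (17, 8, 26), (18, 1, 12), (19, 4, 12), (20, 8, 15), (21, 1, 13), (22, 4, 13), (23, 8, 16), (24, 1, 14), (25, 4, 14), (26, 8, 17)],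
    .meets 0 21, [(10, []), (11, [40])],
    [.clear 40 11]⟩,
  ⟨13, [(0, 8, 4), (1, 8, 3), (2, 3, 7), (3, 8, 1), (4, 0, 8), (5, 0, 7), (6, 2, 4), (7, 0, 5), (8, 0, 4), (9, 0, 18), (10, 0, 21), (11, 0, 24), (12, 18, 1), (14, 10, 15), (15, 8, 20), (16, 8, 23), (17, 8, 26), (18, 0, 9), (19, 3, 9), (20, 8, 15), (21, 0, 10), (22, 3, 10), (23, 8, 16), (24, 0, 11), (25, 3, 11), (26, 8, 17)],
    .meets 4 22, [(13, [])],
    []⟩,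
  ⟨16, [(0, 4, 8), (1, 3, 8), (2, 4, 6), (3, 1, 8), (4, 0, 8), (5, 0, 7), (6, 4, 2), (7, 0, 5), (8, 0, 4), (9, 0, 18), (10, 0, 21), (11, 0, 24), (12, 4, 19), (13, 4, 22), (14, 4, 25), (15, 18, 2), (17, 10, 12), (18, 0, 9), (19, 4, 12), (20, 6, 9), (21, 0, 10), (22, 4, 13), (23, 6, 10), (24, 0, 11), (25, 4, 14), (26, 6, 11)],
    .meets 8 23, [(16, [])],
    []⟩,
  ⟨24, [(0, 4, 8), (1, 8, 3), (2, 4, 6), (3, 8, 1), (4, 8, 0), (5, 6, 1), (6, 4, 2), (7, 3, 2), (8, 4, 0), (9, 3, 19), (10, 3, 22), (11, 3, 25), (12, 4, 19), (13, 4, 22), (14, 4, 25), (15, 8, 20), (16, 8, 23), (17, 8, 26), (18, 9, 0), (19, 4, 12), (20, 8, 15), (21, 10, 0), (22, 4, 13), (23, 8, 16), (25, 4, 14), (26, 8, 17)],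
    .meets 0 11, [(24, [])],
    []⟩,
  ⟨25, [(0, 8, 4), (1, 8, 3), (2, 6, 4), (3, 8, 1), (4, 0, 8), (5, 0, 7), (6, 1, 5), (7, 0, 5), (8, 0, 4), (9, 0, 18), (10, 0, 21), (11, 0, 24), (12, 1, 18), (13, 1, 21), (14, 1, 24), (15, 8, 20), (16, 8, 23), (17, 8, 26), (18, 0, 9), (19, 9, 3), (20, 8, 15), (21, 0, 10), (22, 10, 3), (23, 8, 16), (24, 0, 11), (26, 8, 17)],
    .meets 4 14, [(25, [])],
    []⟩,
  ⟨26, [(0, 4, 8), (1, 3, 8), (2, 4, 6), (3, 1, 8), (4, 0, 8), (5, 0, 7), (6, 4, 2), (7, 0, 5), (8, 0, 4), (9, 0, 18), (10, 0, 21), (11, 0, 24), (12, 4, 19), (13, 4, 22), (14, 4, 25), (15, 2, 18), (16, 2, 21), (17, 2, 24), (18, 0, 9), (19, 4, 12), (20, 9, 6), (21, 0, 10), (22, 4, 13), (23, 10, 6), (24, 0, 11), (25, 4, 14)],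
    .meets 8 17, [(26, [])],
    []⟩,
  ⟨11, [(0, 4, 8), (1, 8, 3), (2, 4, 6), (3, 8, 1), (4, 8, 0), (5, 1, 6), (6, 4, 2), (7, 2, 3), (8, 4, 0), (9, 18, 0), (12, 4, 19), (13, 4, 22), (14, 4, 25), (15, 8, 20), (16, 8, 23), (17, 8, 26), (18, 1, 12), (19, 4, 12), (20, 8, 15), (21, 1, 13), (22, 4, 13), (23, 8, 16), (24, 1, 14), (25, 4, 14), (26, 8, 17)],
    .fixed 0 24, [(11, [])],
    [.clear 31 10]⟩,
  ⟨14, [(0, 8, 4), (1, 8, 3), (2, 3, 7), (3, 8, 1), (4, 0, 8), (5, 0, 7), (6, 2, 4), (7, 0, 5), (8, 0, 4), (9, 0, 18), (10, 0, 21), (11, 0, 24), (12, 18, 1), (13, 11, 15), (15, 8, 20), (16, 8, 23), (17, 8, 26), (18, 0, 9), (19, 3, 9), (20, 8, 15), (21, 0, 10), (22, 3, 10), (23, 8, 16), (24, 0, 11), (25, 3, 11), (26, 8, 17)],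
    .fixed 4 25, [(14, [])],
    []⟩,
  ⟨17, [(0, 4, 8), (1, 3, 8), (2, 4, 6), (3, 1, 8), (4, 0, 8), (5, 0, 7), (6, 4, 2), (7, 0, 5), (8, 0, 4), (9, 0, 18), (10, 0, 21), (11, 0, 24), (12, 4, 19), (13, 4, 22), (14, 4, 25), (15, 18, 2), (16, 11, 12), (18, 0, 9), (19, 4, 12), (20, 6, 9), (21, 0, 10), (22, 4, 13), (23, 6, 10), (24, 0, 11), (25, 4, 14), (26, 6, 11)],
    .fixed 8 26, [(17, [])],
    []⟩,
  ⟨21, [(0, 4, 8), (1, 8, 3), (2, 4, 6), (3, 8, 1), (4, 8, 0), (5, 6, 1), (6, 4, 2), (7, 3, 2), (8, 4, 0), (9, 3, 19), (10, 3, 22), (11, 3, 25), (12, 4, 19), (13, 4, 22), (14, 4, 25), (15, 8, 20), (16, 8, 23), (17, 8, 26), (18, 9, 0), (19, 4, 12), (20, 8, 15), (22, 4, 13), (23, 8, 16), (24, 11, 0), (25, 4, 14), (26, 8, 17)],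
    .fixed 0 10, [(21, [])],
    []⟩,
  ⟨22, [(0, 8, 4), (1, 8, 3), (2, 6, 4), (3, 8, 1), (4, 0, 8), (5, 0, 7), (6, 1, 5), (7, 0, 5), (8, 0, 4), (9, 0, 18), (10, 0, 21), (11, 0, 24), (12, 1, 18), (13, 1, 21), (14, 1, 24), (15, 8, 20), (16, 8, 23), (17, 8, 26), (18, 0, 9), (19, 9, 3), (20, 8, 15), (21, 0, 10), (23, 8, 16), (24, 0, 11), (25, 11, 3), (26, 8, 17)],
    .fixed 4 13, [(22, [])],
    []⟩,
  ⟨23, [(0, 4, 8), (1, 3, 8), (2, 4, 6), (3, 1, 8), (4, 0, 8), (5, 0, 7), (6, 4, 2), (7, 0, 5), (8, 0, 4), (9, 0, 18), (10, 0, 21), (11, 0, 24), (12, 4, 19), (13, 4, 22), (14, 4, 25), (15, 2, 18), (16, 2, 21), (17, 2, 24), (18, 0, 9), (19, 4, 12), (20, 9, 6), (21, 0, 10), (22, 4, 13), (24, 0, 11), (25, 4, 14), (26, 11, 6)],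
    .fixed 8 16, [(23, [])],
    []⟩]

end CfsgLib.Chevalley.E6Cubic
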